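import Mathlib
import Groth.Prelude.Def_Mor2

/-! # Uniformly bounded affine covers of base changes of a quasi-compact morphism -/

set_option autoImplicit false
universe u

open CategoryTheory AlgebraicGeometry Opposite TopologicalSpace Limits

namespace Groth.Agent.H8.QAffCov

/-- partition of unity subordinate to a finite open cover of a prime spectrum. -/
theorem exists_partition {R : Type*} [CommRing R] {ι : Type*} [Fintype ι]
    (U : ι → Opens (PrimeSpectrum R)) (hU : ⨆ i, U i = ⊤) :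
    ∃ a : ι → R, ∑ i, a i = 1 ∧ ∀ i, PrimeSpectrum.basicOpen (a i) ≤ U i := by
  classical
  let I : ι → Ideal R := fun i =>
    PrimeSpectrum.vanishingIdeal ((U i : Set (PrimeSpectrum R))ᶜ)
  have hI : ⨆ i, I i = ⊤ := by
    by_contra h
    obtain ⟨𝔪, h𝔪, hle⟩ := Ideal.exists_le_maximal _ h
    let x : PrimeSpectrum R := ⟨𝔪, h𝔪.isPrime⟩
    have hx : x ∈ ⨆ i, U i := by rw [hU]; trivial
    obtain ⟨i, hi⟩ := Opens.mem_iSup.mp hx
    have hcl : PrimeSpectrum.zeroLocus (I i : Set R) = (U i : Set (PrimeSpectrum R))ᶜ := by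
      rw [PrimeSpectrum.zeroLocus_vanishingIdeal_eq_closure]
      exact (U i).isOpen.isClosed_compl.closure_eq
    have hmem : x ∈ PrimeSpectrum.zeroLocus (I i : Set R) := by
      rw [PrimeSpectrum.mem_zeroLocus]
      exact (le_iSup I i).trans hle
    rw [hcl] at hmem
    exact hmem hi
  have h1 : (1 : R) ∈ ⨆ i, I i := by rw [hI]; trivial
  rw [Submodule.mem_iSup_iff_exists_finsupp] at h1
  obtain ⟨f, hf, hsum⟩ := h1
  refine ⟨fun i => f i, ?_, fun i => ?_⟩
  · rw [← hsum, Finsupp.sum_fintype]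
    intro i
    rfl
  · intro x hx
    by_contra hxU
    have h2 : f i ∈ x.asIdeal := by
      have h3 := hf i
      rw [PrimeSpectrum.mem_vanishingIdeal] at h3
      exact h3 x hxU
    exact hx h2

/-- the part of a fibre product over affine opens of the three schemes is affine. -/
theorem isAffineOpen_pullback_inf {X Y Z : Scheme.{u}} {f : X ⟶ Z} {g : Y ⟶ Z}
    {U : X.Opens} (hU : IsAffineOpen U) {V : Y.Opens} (hV : IsAffineOpen V)
    {W : Z.Opens} (hW : IsAffineOpen W) (hUW : U ≤ f ⁻¹ᵁ W) (hVW : V ≤ g ⁻¹ᵁ W) :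
    IsAffineOpen (pullback.fst f g ⁻¹ᵁ U ⊓ pullback.snd f g ⁻¹ᵁ V) := by
  have : IsAffine U.toScheme := hU
  have : IsAffine W.toScheme := hW
  have : IsAffine V.toScheme := hV
  let f' : U.toScheme ⟶ W := f.resLE _ _ hUW
  let g' : V.toScheme ⟶ W := g.resLE _ _ hVW
  let p : pullback f' g' ⟶ pullback f g :=
    pullback.map _ _ _ _ U.ι V.ι W.ι (by simp [f']) (by simp [g'])
  have hrange : p.opensRange = pullback.fst f g ⁻¹ᵁ U ⊓ pullback.snd f g ⁻¹ᵁ V := by
    apply Opens.ext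
    simp [p, Scheme.Pullback.range_map]
  rw [← hrange]
  exact isAffineOpen_opensRange p

/-- the main statement: only quasi-compactness of the morphism is used. -/
theorem main {W Y : Scheme.{u}} (j : W ⟶ Y) [CompactSpace Y] (hj : QuasiCompact j) :
    ∃ m : ℕ, ∀ (B : CommRingCat.{u}) (g : Spec B ⟶ Y),
      ∃ U : Fin m → (Limits.pullback j g).Opens, (∀ k, IsAffineOpen (U k)) ∧ ⨆ k, U k = ⊤ := by
  classical
  have hYc : IsCompact ((⊤ : Y.Opens) : Set Y) := by
    rw [Opens.coe_top]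
    exact isCompact_univ
  obtain ⟨sY, hsYfin, hsY⟩ := isCompact_iff_finite_and_eq_biUnion_affineOpens.mp hYc
  have hW : ∀ V : Y.affineOpens, ∃ s : Set W.affineOpens, s.Finite ∧
      j ⁻¹ᵁ (V : Y.Opens) = ⨆ i ∈ s, (i : W.Opens) := fun V =>
    isCompact_iff_finite_and_eq_biUnion_affineOpens.mp
      ((quasiCompact_iff_forall_isAffineOpen.mp hj) V.1 V.2)
  choose sW hsWfin hsW using hW
  let K : Set (Y.affineOpens × W.affineOpens) := {p | p.1 ∈ sY ∧ p.2 ∈ sW p.1}
  have hKsub : K ⊆ ⋃ V ∈ sY, (fun W' => (V, W')) '' sW V := by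
    rintro ⟨V, W'⟩ ⟨h1, h2⟩
    exact Set.mem_biUnion h1 ⟨W', h2, rfl⟩
  have hKfin : K.Finite := (hsYfin.biUnion (fun V _ => (hsWfin V).image _)).subset hKsub
  haveI : Fintype K := hKfin.fintype
  haveI : Fintype sY := hsYfin.fintype
  refine ⟨Fintype.card K, fun B g => ?_⟩
  let e : K ≃ Fin (Fintype.card K) := Fintype.equivFin K
  have hcov : ⨆ V : sY, (g ⁻¹ᵁ (V.1 : Y.Opens)) = ⊤ := by
    apply top_le_iff.mp
    intro b _
    have hb : g b ∈ (⊤ : Y.Opens) := trivial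
    rw [hsY] at hb
    simp only [Opens.mem_iSup] at hb
    obtain ⟨V, hV, hbV⟩ := hb
    exact Opens.mem_iSup.mpr ⟨⟨V, hV⟩, hbV⟩
  obtain ⟨c, hc1, hcU⟩ := exists_partition (R := B) (fun V : sY => g ⁻¹ᵁ (V.1 : Y.Opens)) hcov
  refine ⟨fun k => pullback.fst j g ⁻¹ᵁ ((e.symm k).1.2 : W.Opens) ⊓
      pullback.snd j g ⁻¹ᵁ (PrimeSpectrum.basicOpen (c ⟨(e.symm k).1.1, (e.symm k).2.1⟩)),
    ?_, ?_⟩
  · intro k
    refine isAffineOpen_pullback_inf (e.symm k).1.2.2 (IsAffineOpen.Spec_basicOpen _)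
      (e.symm k).1.1.2 ?_ ?_
    · rw [hsW]
      exact le_iSup₂ (f := fun i (_ : i ∈ sW (e.symm k).1.1) => (i : W.Opens))
        (e.symm k).1.2 (e.symm k).2.2
    · exact hcU ⟨(e.symm k).1.1, (e.symm k).2.1⟩
  · apply top_le_iff.mp
    intro x _
    have hex : ∃ V : sY, c V ∉ ((pullback.snd j g) x : PrimeSpectrum B).asIdeal := by
      by_contra hall
      push_neg at hall
      have h1 : (1 : B) ∈ ((pullback.snd j g) x : PrimeSpectrum B).asIdeal :=
        hc1 ▸ Ideal.sum_mem _ (fun i _ => hall i)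
      exact (((pullback.snd j g) x : PrimeSpectrum B).isPrime.ne_top)
        ((Ideal.eq_top_iff_one _).mpr h1)
    obtain ⟨V, hV⟩ := hex
    have hgV : g (pullback.snd j g x) ∈ (V.1 : Y.Opens) := hcU V hV
    have hjx : j (pullback.fst j g x) ∈ (V.1 : Y.Opens) := by
      have h2 : j (pullback.fst j g x) = g (pullback.snd j g x) := by
        rw [← Scheme.Hom.comp_apply, ← Scheme.Hom.comp_apply, pullback.condition]
      rw [h2]
      exact hgV
    have hx1 : pullback.fst j g x ∈ j ⁻¹ᵁ (V.1 : Y.Opens) := hjx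
    rw [hsW] at hx1
    simp only [Opens.mem_iSup] at hx1
    obtain ⟨W', hW', hxW'⟩ := hx1
    let k0 : K := ⟨(V.1, W'), V.2, hW'⟩
    refine Opens.mem_iSup.mpr ⟨e k0, ?_⟩
    simp only [Equiv.symm_apply_apply]
    exact ⟨hxW', hV⟩

end Groth.Agent.H8.QAffCov
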